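import Cfsg.Agent.H241.NHThree
import Cfsg.Agent.LThreeMB.Quo
import Cfsg.Agent.FastGrp
import Cfsg.Agent.Prune
set_option linter.all false
prune_inst 0x7f00000000000000000000000000000000000000000000000000000000000000000000000000000000000000000000000000000000000000000000000000000000000000000000000000000000000000003fffffffffffffffffffffffffffbeffbdffffffff
open scoped Cfsg.Agent.FastGrp

/-!
# Row of the nilpotent Hall cluster: the Monster, general lemmas (helper241)

* `Self v y` : `C(v) ∩ C(y) = ⟨v⟩⟨y⟩`;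
* `card_dvd_168` : `v` of order 3, `w` of order 7, `Self v y`, `Self w y`: `|C(y)|` divides `168 r`;
* `no_comm_of_comm` : `v` of order 3, `Self v y`, `z` in the commutator subgroup of `C(y)`.
-/

set_option autoImplicit false
open Subgroup
open scoped Pointwise

namespace Cfsg.Agent.H241.NH

open Cfsg.Agent.H630.NH Cfsg.Agent.H393.Iso
open Cfsg.Agent.LThreeMB (XX mk exists_mk mk_eq_one mk_eq_mk Zx self)

universe u

section

variable {G : Type u} [Group G]

/-- `C(v) ∩ C(y) = ⟨v⟩⟨y⟩` -/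
def Self (v y : G) : Prop :=
  v * y = y * v ∧ ∀ g : G, g * v = v * g → g * y = y * g → ∃ i j : ℤ, g = v ^ i * y ^ j

theorem Self.symm {v y : G} (h : Self v y) : Self y v := by
  refine ⟨h.1.symm, fun g hy hv => ?_⟩
  obtain ⟨i, j, hij⟩ := h.2 g hv hy
  exact ⟨j, i, by rw [hij]; exact (((show Commute v y from h.1).zpow_zpow i j).eq)⟩

theorem Self.conj {v y : G} (h : Self v y) (k : G) : Self (k * v * k⁻¹) (k * y * k⁻¹) := by
  constructor
  · calc k * v * k⁻¹ * (k * y * k⁻¹) = k * (v * y) * k⁻¹ := by group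
      _ = k * (y * v) * k⁻¹ := by rw [h.1]
      _ = k * y * k⁻¹ * (k * v * k⁻¹) := by group
  · intro g hv hy
    have h1 : ∀ x : G, g * (k * x * k⁻¹) = k * x * k⁻¹ * g → (k⁻¹ * g * k) * x = x * (k⁻¹ * g * k) := by
      intro x hx
      calc (k⁻¹ * g * k) * x = k⁻¹ * (g * (k * x * k⁻¹)) * k := by group
        _ = k⁻¹ * (k * x * k⁻¹ * g) * k := by rw [hx]
        _ = x * (k⁻¹ * g * k) := by group
    obtain ⟨i, j, hij⟩ := h.2 _ (h1 v hv) (h1 y hy)
    refine ⟨i, j, ?_⟩
    rw [conj_zpow, conj_zpow]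
    calc g = k * (k⁻¹ * g * k) * k⁻¹ := by group
      _ = k * (v ^ i * y ^ j) * k⁻¹ := by rw [hij]
      _ = _ := by group

theorem Self.right {v y y' : G} (h : Self v y) (h1 : y' ∈ zpowers y) (h2 : y ∈ zpowers y') : Self v y' := by
  obtain ⟨a, ha⟩ := h1
  obtain ⟨b, hb⟩ := h2
  have ha : y ^ a = y' := ha
  have hb : y' ^ b = y := hb
  constructor
  · rw [← ha]; exact ((show Commute v y from h.1).zpow_right a).eq
  · intro g hv hy
    obtain ⟨i, j, hij⟩ := h.2 g hv (by rw [← hb]; exact ((show Commute g y' from hy).zpow_right b).eq)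
    refine ⟨i, b * j, ?_⟩
    rw [hij, zpow_mul, hb]

/-- generators of `⟨y⟩` -/
theorem mem_zpowers_pow {y : G} {r a : ℕ} (hr : r.Prime) (hy : orderOf y = r) (ha : ¬ r ∣ a) : y ∈ zpowers (y ^ a) := by
  have h1 : Nat.Coprime (orderOf y) a := by rw [hy]; exact (Nat.Prime.coprime_iff_not_dvd hr).2 ha
  obtain ⟨m, hm⟩ := exists_pow_eq_self_of_coprime h1.symm
  refine ⟨(m : ℤ), ?_⟩
  show (y ^ a) ^ (m : ℤ) = y
  rw [zpow_natCast, hm]

/-- lifting from `C(v)/⟨v⟩` -/
theorem exists_self {v : G} {p r : ℕ} (hp : p.Prime) (hr : r.Prime) (hpr : p ≠ r) (hv : orderOf v = p) {y0 : XX v}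
    (hy0 : orderOf y0 = r) (hC : ∀ g : XX v, g * y0 = y0 * g → g ∈ zpowers y0) :
    ∃ y : G, orderOf y = r ∧ Self v y := by
  obtain ⟨g, hg, rfl⟩ := exists_mk y0
  have hFr : Fact r.Prime := ⟨hr⟩
  have hpow : ∀ (n : ℕ), g ^ n * v = v * g ^ n := fun n => ((show Commute g v from hg).pow_left n).eq
  have hmk : ∀ n : ℕ, mk v (hpow n) = mk v hg ^ n := by
    intro n
    rfl
  have hgr : ∃ i : ℤ, v ^ i = g ^ r := (mk_eq_one (hpow r)).1 (by rw [hmk, ← hy0, pow_orderOf_eq_one])
  have hndvd : ¬ r ∣ p := fun h => hpr ((Nat.prime_dvd_prime_iff_eq hr hp).1 h).symm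
  have hmkp : orderOf (mk v (hpow p)) = r := by
    rw [hmk]
    have h1 : Nat.Coprime (orderOf (mk v hg)) p := by rw [hy0]; exact (Nat.Prime.coprime_iff_not_dvd hr).2 hndvd
    rw [Nat.Coprime.orderOf_pow h1, hy0]
  have hyr : (g ^ p) ^ r = 1 := by
    obtain ⟨i, hi⟩ := hgr
    rw [← pow_mul, mul_comm, pow_mul, ← hi, ← zpow_natCast, ← zpow_mul, mul_comm, zpow_mul, zpow_natCast, ← hv,
      pow_orderOf_eq_one, one_zpow]
  have hne : g ^ p ≠ 1 := by
    intro h
    have h1 : mk v (hpow p) = 1 := (mk_eq_one (hpow p)).2 ⟨0, by rw [zpow_zero, h]⟩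
    rw [h1, orderOf_one] at hmkp
    exact hr.one_lt.ne hmkp
  refine ⟨g ^ p, orderOf_eq_prime hyr hne, (hpow p).symm, fun h hhv hhy => ?_⟩
  have h1 : mk v hhv * mk v (hpow p) = mk v (hpow p) * mk v hhv := by
    apply congrArg (QuotientGroup.mk (s := Zx v))
    exact Subtype.ext hhy
  have h2 : mk v hhv * mk v hg = mk v hg * mk v hhv := by
    obtain ⟨i, hi⟩ := mem_zpowers_pow hr hy0 hndvd
    have hi' : (mk v (hpow p)) ^ i = mk v hg := by rw [hmk]; exact hi
    rw [← hi']
    exact ((show Commute (mk v hhv) (mk v (hpow p)) from h1).zpow_right i).eq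
  obtain ⟨i, hi⟩ := hC _ h2
  obtain ⟨j, hj⟩ := mem_zpowers_pow hr hy0 hndvd
  have hj' : (mk v (hpow p)) ^ j = mk v hg := by rw [hmk]; exact hj
  have hi' : (mk v (hpow p)) ^ (j * i) = mk v hhv := by rw [zpow_mul, hj']; exact hi
  have h3 : (g ^ p) ^ (j * i) * v = v * (g ^ p) ^ (j * i) :=
    ((show Commute (g ^ p) v from hpow p).zpow_left (j * i)).eq
  have h4 : mk v h3 = mk v hhv := by rw [← hi']; rfl
  obtain ⟨k, hk⟩ := (mk_eq_mk h3 hhv).1 h4
  refine ⟨k, j * i, ?_⟩
  rw [← hk]
  exact ((show Commute (g ^ p) v from hpow p).zpow_zpow (j * i) k).eq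

/-- `v` in `C(y)/⟨y⟩` -/
theorem Self.quot {v y : G} {p r : ℕ} (h : Self v y) (hp : p.Prime) (hr : r.Prime) (hpr : p ≠ r) (hv : orderOf v = p)
    (hy : orderOf y = r) : orderOf (mk y h.1) = p ∧ ∀ g : XX y, g * mk y h.1 = mk y h.1 * g → g ∈ zpowers (mk y h.1) := by
  have hFp : Fact p.Prime := ⟨hp⟩
  have hvp : v ^ p = 1 := by rw [← hv, pow_orderOf_eq_one]
  have hpowy : ∀ i : ℤ, (y ^ i) ^ p = 1 → y ^ i = 1 := by
    intro i hi
    have h1 : (y ^ i) ^ r = 1 := by
      rw [← zpow_natCast, ← zpow_mul, mul_comm, zpow_mul, zpow_natCast, ← hy, pow_orderOf_eq_one, one_zpow]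
    have h2 : Nat.Coprime p r := (Nat.coprime_primes hp hr).2 hpr
    have h3 : orderOf (y ^ i) ∣ Nat.gcd p r := Nat.dvd_gcd (orderOf_dvd_of_pow_eq_one hi) (orderOf_dvd_of_pow_eq_one h1)
    rw [h2] at h3
    exact orderOf_eq_one_iff.1 (Nat.dvd_one.1 h3)
  constructor
  · refine orderOf_eq_prime ?_ ?_
    · have h1 : v ^ p * y = y * v ^ p := ((show Commute v y from h.1).pow_left p).eq
      have h2 : mk y h.1 ^ p = mk y h1 := rfl
      rw [h2, LThreeMB.mk_eq_one]
      exact ⟨0, by rw [zpow_zero, hvp]⟩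
    · intro h1
      obtain ⟨i, hi⟩ := (mk_eq_one h.1).1 h1
      have h2 := hpowy i (by rw [hi, hvp])
      rw [← hi, h2, orderOf_one] at hv
      exact hp.one_lt.ne hv
  · intro g hg
    obtain ⟨g, hgy, rfl⟩ := exists_mk g
    have h1 : (g * v * g⁻¹) * y = y * (g * v * g⁻¹) := LThreeMB.conj_comm hgy h.1
    have h2 : mk y h1 = mk y h.1 := by
      have h3 : mk y h1 = mk y hgy * mk y h.1 * (mk y hgy)⁻¹ := rfl
      rw [h3, hg, mul_inv_cancel_right]
    obtain ⟨i, hi⟩ := (mk_eq_mk h.1 h1).1 h2.symm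
    have h4 : (v * y ^ i) ^ p = 1 := by rw [hi, conj_pow, hvp, mul_one, mul_inv_cancel]
    have h5 : Commute v (y ^ i) := (show Commute v y from h.1).zpow_right i
    rw [h5.mul_pow, hvp, one_mul] at h4
    have h6 := hpowy i h4
    rw [h6, mul_one] at hi
    obtain ⟨a, b, hab⟩ := h.2 g (mul_inv_eq_iff_eq_mul.1 hi.symm) hgy
    refine ⟨a, ?_⟩
    have h7 : v ^ a * y = y * v ^ a := ((show Commute v y from h.1).zpow_left a).eq
    have h8 : mk y h.1 ^ a = mk y h7 := rfl
    show mk y h.1 ^ a = mk y hgy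
    rw [h8]
    exact (mk_eq_mk h7 hgy).2 ⟨b, hab.symm⟩

theorem centralizer_zpowers_eq {K : Type u} [Group K] {t : K} (h : ∀ g : K, g * t = t * g → g ∈ zpowers t) :
    centralizer ((zpowers t : Subgroup K) : Set K) = zpowers t := by
  apply le_antisymm
  · intro g hg
    exact h g (mem_centralizer_iff.1 hg _ (mem_zpowers _)).symm
  · rintro _ ⟨a, rfl⟩
    rw [mem_centralizer_iff]
    rintro _ ⟨b, rfl⟩
    show _ ^ b * _ ^ a = _ ^ a * _ ^ b
    rw [← zpow_add, ← zpow_add, add_comm]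

/-- self-centralizing elements of orders 3 and 7 -/
theorem dvd_168 (h3 : Three.{u}) {K : Type u} [Group K] [Finite K] {t w : K} (ht : orderOf t = 3)
    (htC : ∀ g : K, g * t = t * g → g ∈ zpowers t) (hw : orderOf w = 7)
    (hwC : ∀ g : K, g * w = w * g → g ∈ zpowers w) : Nat.card K ∣ 168 := by
  have hT : Nat.card (zpowers t) = 3 := by rw [Nat.card_zpowers, ht]
  have h7K : 7 ∣ Nat.card K := by rw [← hw]; exact orderOf_dvd_natCard w
  rcases h3 K (zpowers t) hT (centralizer_zpowers_eq htC) with ⟨N, hN, hnil, h36⟩ | ⟨N, hN, hsq, h60⟩ | h168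
  · -- `w ∈ N`
    have hidx : N.index = 3 ∨ N.index = 6 := h36
    have hwN : w ∈ N := by
      have h1 : (QuotientGroup.mk w : K ⧸ N) = 1 := by
        have h2 : orderOf (QuotientGroup.mk w : K ⧸ N) ∣ 7 := by
          rw [← hw]; exact orderOf_map_dvd (QuotientGroup.mk' N) w
        have h3 : orderOf (QuotientGroup.mk w : K ⧸ N) ∣ 6 := by
          refine (_root_.orderOf_dvd_natCard _).trans ?_
          rcases h36 with h | h <;> rw [h]
          norm_num
        have h4 : orderOf (QuotientGroup.mk w : K ⧸ N) ∣ 1 := by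
          have := Nat.dvd_gcd h2 h3
          exact this
        exact orderOf_eq_one_iff.1 (Nat.dvd_one.1 h4)
      exact (QuotientGroup.eq_one_iff w).1 h1
    have hne : Nontrivial N := ⟨⟨⟨w, hwN⟩, 1, fun h => by
      have h1 : w = 1 := congrArg Subtype.val h
      rw [h1, orderOf_one] at hw; norm_num at hw⟩⟩
    have hnil' : Group.IsNilpotent N := hnil
    have hcen : Nontrivial (center N) := (Subgroup.nontrivial_iff_ne_bot _).2 (Group.IsNilpotent.center_ne_bot N)
    obtain ⟨c, hc⟩ := exists_ne (1 : center N)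
    have h1 : ((c : N) : K) * w = w * ((c : N) : K) := by
      have h2 := mem_center_iff.1 c.2 ⟨w, hwN⟩
      exact (congrArg Subtype.val h2).symm
    obtain ⟨i, hi⟩ := hwC _ h1
    have hi : w ^ i = ((c : N) : K) := hi
    -- `w ∈ zpowers c`
    have hcne : ((c : N) : K) ≠ 1 := by
      intro h2
      apply hc
      exact Subtype.ext (Subtype.ext h2)
    have h2 : w ∈ zpowers ((c : N) : K) := by
      have h3 : Nat.card (zpowers ((c : N) : K)) = 7 := by
        have : Fact (Nat.Prime 7) := ⟨by norm_num⟩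
        rw [Nat.card_zpowers]
        refine orderOf_eq_prime ?_ hcne
        rw [← hi, ← zpow_natCast, ← zpow_mul, mul_comm, zpow_mul, zpow_natCast, ← hw, pow_orderOf_eq_one, one_zpow]
      have h4 : zpowers ((c : N) : K) = zpowers w := by
        refine Subgroup.eq_of_le_of_card_ge ?_ ?_
        · rw [zpowers_le]; exact ⟨i, hi⟩
        · rw [h3, Nat.card_zpowers, hw]
      rw [h4]; exact mem_zpowers w
    obtain ⟨j, hj⟩ := h2
    have hj : ((c : N) : K) ^ j = w := hj
    have h3 : N ≤ zpowers w := by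
      intro n hn
      apply hwC
      rw [← hj]
      have h4 := mem_center_iff.1 c.2 ⟨n, hn⟩
      have h5 : n * ((c : N) : K) = ((c : N) : K) * n := congrArg Subtype.val h4
      exact ((show Commute n ((c : N) : K) from h5).zpow_right j).eq
    have h4 : Nat.card N ∣ 7 := by
      have := card_dvd_of_le h3
      rwa [Nat.card_zpowers, hw] at this
    rw [← N.card_mul_index]
    have h5 : N.index ∣ 6 := by rcases hidx with h | h <;> rw [h]; norm_num
    exact (Nat.mul_dvd_mul h4 h5).trans (by norm_num)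
  · exfalso
    have hidx : N.index = 60 := h60
    have : Fact (Nat.Prime 7) := ⟨by norm_num⟩
    rw [← N.card_mul_index, hidx] at h7K
    rcases (Nat.Prime.dvd_mul (by norm_num)).1 h7K with h | h
    · obtain ⟨n, hn⟩ := exists_prime_orderOf_dvd_card' 7 h
      have h1 : orderOf (n : K) ∣ 2 := orderOf_dvd_of_pow_eq_one (hsq n n.2)
      rw [Subgroup.orderOf_coe, hn] at h1
      norm_num at h1
    · norm_num at h
  · rw [h168]

/-- **`|C(y)|` divides `168 r`.** -/
theorem card_dvd_168 (h3 : Three.{u}) [Finite G] {y v w : G} {r : ℕ} (hr : r.Prime) (hr3 : r ≠ 3) (hr7 : r ≠ 7)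
    (hy : orderOf y = r) (hv : orderOf v = 3) (hvy : Self v y) (hw : orderOf w = 7) (hwy : Self w y) :
    Nat.card (centralizer ({y} : Set G)) ∣ 168 * r := by
  obtain ⟨h1, h2⟩ := hvy.quot Nat.prime_three hr hr3.symm hv hy
  obtain ⟨h4, h5⟩ := hwy.quot (by norm_num) hr hr7.symm hw hy
  have h6 := dvd_168 h3 h1 h2 h4 h5
  have h7 : Nat.card (Zx y) = r := by
    show Nat.card (zpowers (self y)) = r
    rw [Nat.card_zpowers, ← hy]
    exact Subgroup.orderOf_mk y _
  have h8 := Subgroup.card_eq_card_quotient_mul_card_subgroup (Zx y)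
  rw [h8, h7]
  exact Nat.mul_dvd_mul_right h6 r

end

/-! ### `z` in the commutator subgroup -/

/-- a normal subgroup of prime order is centralized by the commutator subgroup -/
theorem comm_of_commutator {K : Type u} [Group K] [Finite K] {q : ℕ} (hq : q.Prime)
    {N : Subgroup K} (hN : N.Normal) (hc : Nat.card N = q) {z : K} (hz : z ∈ commutator K) : ∀ n ∈ N, n * z = z * n := by
  have : Fact q.Prime := ⟨hq⟩
  have hcyc : IsCyclic N := isCyclic_of_prime_card hc
  let f : K →* MulAut N := MulAut.conjNormal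
  have hab : ∀ a b : MulAut N, a * b = b * a := by
    intro a b
    have e := IsCyclic.mulAutMulEquiv N
    apply e.injective
    rw [map_mul, map_mul, mul_comm]
  have h1 : commutator K ≤ f.ker := by
    rw [commutator_def, Subgroup.commutator_le]
    intro a _ b _
    rw [MonoidHom.mem_ker, commutatorElement_def, map_mul, map_mul, map_mul, map_inv, map_inv, hab (f a) (f b)]
    group
  have h2 : f z = 1 := h1 hz
  intro n hn
  have h6 := congrArg (fun g : MulAut N => ((g ⟨n, hn⟩ : N) : K)) h2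
  simp only [f, MulAut.conjNormal_apply, MulAut.one_apply] at h6
  exact (mul_inv_eq_iff_eq_mul.1 h6).symm

/-- the normal Sylow subgroup -/
theorem exists_normal_of_self (h3 : Three.{u}) {K : Type u} [Group K] [Finite K] {t : K} (ht : orderOf t = 3)
    (htC : ∀ g : K, g * t = t * g → g ∈ zpowers t) {q : ℕ} (hq : q.Prime) (hq11 : 11 ≤ q) (hq2 : ¬ q ^ 2 ∣ Nat.card K)
    (hd : q ∣ Nat.card K) : ∃ X : Subgroup K, X.Normal ∧ Nat.card X = q := by
  have hFq : Fact q.Prime := ⟨hq⟩
  have hT : Nat.card (zpowers t) = 3 := by rw [Nat.card_zpowers, ht]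
  rcases h3 K (zpowers t) hT (centralizer_zpowers_eq htC) with ⟨N, hN, hnil, h36⟩ | ⟨N, hN, hsq, h60⟩ | h168
  · have hcN := N.card_mul_index
    have hidx : N.index = 3 ∨ N.index = 6 := h36
    have hqN : q ∣ Nat.card N := by
      rw [← hcN] at hd
      rcases hq.dvd_mul.1 hd with h | h
      · exact h
      · exfalso
        rcases hidx with h1 | h1 <;> rw [h1] at h
        · have := Nat.le_of_dvd (by norm_num) h; omega
        · have := Nat.le_of_dvd (by norm_num) h; omega
    obtain ⟨P⟩ : Nonempty (Sylow q N) := inferInstance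
    have hnil' : Group.IsNilpotent N := hnil
    have hPn : (P : Subgroup N).Normal := by
      have h4 : NormalizerCondition N := Group.normalizerCondition_of_isNilpotent
      exact Sylow.normal_of_normalizerCondition h4 P
    have hPc : (P : Subgroup N).Characteristic := P.characteristic_of_normal hPn
    have hPK : ((P : Subgroup N).map N.subtype).Normal := ConjAct.normal_of_characteristic_of_normal
    refine ⟨_, hPK, ?_⟩
    rw [Subgroup.card_map_of_injective N.subtype_injective]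
    obtain ⟨k, hk⟩ := IsPGroup.iff_card.1 P.2
    have h4 : k < 2 := by
      by_contra hk2
      refine hq2 ((Nat.pow_dvd_pow q (not_lt.1 hk2)).trans ?_)
      rw [← hk]
      exact (card_subgroup_dvd_card _).trans (card_subgroup_dvd_card _)
    have h5 : q ∣ Nat.card (P : Subgroup N) := P.dvd_card_of_dvd_card hqN
    rw [hk] at h5 ⊢
    interval_cases k
    · exact absurd (Nat.dvd_one.1 (by simpa using h5)) hq.one_lt.ne'
    · exact pow_one q
  · exfalso
    have hcN := N.card_mul_index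
    have hidx : N.index = 60 := h60
    rw [← hcN, hidx] at hd
    rcases hq.dvd_mul.1 hd with h | h
    · obtain ⟨n, hn⟩ := exists_prime_orderOf_dvd_card' q h
      have h1 := hsq n n.2
      have h2 : orderOf (n : K) ∣ 2 := orderOf_dvd_of_pow_eq_one h1
      rw [Subgroup.orderOf_coe, hn] at h2
      have := Nat.le_of_dvd (by norm_num) h2
      omega
    · have h1 : q ∣ 2 ^ 2 * 3 * 5 := h
      rcases hq.dvd_mul.1 h1 with h2 | h2
      · rcases hq.dvd_mul.1 h2 with h3 | h3
        · have := (Nat.prime_dvd_prime_iff_eq hq Nat.prime_two).1 (hq.dvd_of_dvd_pow h3); omega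
        · have := (Nat.prime_dvd_prime_iff_eq hq Nat.prime_three).1 h3; omega
      · have := (Nat.prime_dvd_prime_iff_eq hq Nat.prime_five).1 h2; omega
  · exfalso
    rw [h168] at hd
    have h1 : q ∣ 2 ^ 3 * 3 * 7 := hd
    rcases hq.dvd_mul.1 h1 with h2 | h2
    · rcases hq.dvd_mul.1 h2 with h3 | h3
      · have := (Nat.prime_dvd_prime_iff_eq hq Nat.prime_two).1 (hq.dvd_of_dvd_pow h3); omega
      · have := (Nat.prime_dvd_prime_iff_eq hq Nat.prime_three).1 h3; omega
    · have := (Nat.prime_dvd_prime_iff_eq hq (by norm_num : (7 : ℕ).Prime)).1 h2; omega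

/-- **`z = [a, b]` with `a, b ∈ C(y)`, `Self v y`.** -/
theorem no_comm_of_comm (h3 : Three.{u}) {G : Type u} [Group G] [Finite G] {y v z a b : G} {r : ℕ} (hr : r.Prime)
    (hr3 : r ≠ 3) (hr2 : r ≠ 2) (hy : orderOf y = r) (hv : orderOf v = 3) (hvy : Self v y) (hay : a * y = y * a)
    (hby : b * y = y * b) (hz : a * b * a⁻¹ * b⁻¹ = z) (hz2 : z * z = 1) {q : ℕ} (hq : q.Prime) (hq11 : 11 ≤ q)
    (hqr : q ≠ r) (hq2 : ¬ q ^ 2 ∣ Nat.card G) (hqz : ¬ q ∣ Nat.card (centralizer ({z} : Set G))) (x : G)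
    (hx : orderOf x = q) : x * y ≠ y * x := by
  intro hxy
  have hFq : Fact q.Prime := ⟨hq⟩
  obtain ⟨h1, h2⟩ := hvy.quot Nat.prime_three hr hr3.symm hv hy
  have hcard : Nat.card (XX y) ∣ Nat.card G :=
    (Subgroup.card_quotient_dvd_card _).trans (card_subgroup_dvd_card _)
  have hxq : orderOf (mk y hxy) = q := by
    refine orderOf_eq_prime ?_ ?_
    · have h4 : x ^ q * y = y * x ^ q := ((show Commute x y from hxy).pow_left q).eq
      have h5 : mk y hxy ^ q = mk y h4 := rfl
      rw [h5, LThreeMB.mk_eq_one]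
      exact ⟨0, by rw [zpow_zero, ← hx, pow_orderOf_eq_one]⟩
    · intro h4
      obtain ⟨i, hi⟩ := (mk_eq_one hxy).1 h4
      have h5 : orderOf x ∣ r := by
        refine orderOf_dvd_of_pow_eq_one ?_
        rw [← hi, ← zpow_natCast, ← zpow_mul, mul_comm, zpow_mul, zpow_natCast, ← hy, pow_orderOf_eq_one, one_zpow]
      rw [hx] at h5
      exact hqr ((Nat.prime_dvd_prime_iff_eq hq hr).1 h5)
  obtain ⟨X, hX, hXc⟩ := exists_normal_of_self h3 h1 h2 hq hq11 (fun h => hq2 (h.trans hcard))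
    (by rw [← hxq]; exact orderOf_dvd_natCard _)
  have hXn : X.Normal := hX
  obtain ⟨n, hn⟩ := exists_prime_orderOf_dvd_card' (G := X) q (by rw [hXc])
  have hzK : mk y hay * mk y hby * (mk y hay)⁻¹ * (mk y hby)⁻¹ ∈ commutator (XX y) :=
    Subgroup.commutator_mem_commutator (H₁ := ⊤) (H₂ := ⊤) (mem_top (mk y hay)) (mem_top (mk y hby))
  have hcz := comm_of_commutator hq hX hXc hzK n n.2
  obtain ⟨g, hg, hgn⟩ := exists_mk (n : XX y)
  have hzy : z * y = y * z := by
    rw [← hz]
    have h4 : Commute (a * b * a⁻¹ * b⁻¹) y :=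
      (((show Commute a y from hay).mul_left (show Commute b y from hby)).mul_left
        (show Commute a y from hay).inv_left).mul_left (show Commute b y from hby).inv_left
    exact h4.eq
  have hzmk : mk y hay * mk y hby * (mk y hay)⁻¹ * (mk y hby)⁻¹ = mk y hzy := by
    refine Eq.trans ?_ (LThreeMB.mk_congr (hg := ?_) (hk := hzy) hz)
    · rfl
    · rw [hz]; exact hzy
  rw [hzmk, ← hgn] at hcz
  -- `z` commutes with `g`
  have hgz : (z * g * z⁻¹) * y = y * (z * g * z⁻¹) := LThreeMB.conj_comm hzy hg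
  have h4 : mk y hg = mk y hgz := by
    have h5 : mk y hgz = mk y hzy * mk y hg * (mk y hzy)⁻¹ := rfl
    rw [h5, ← hcz, mul_inv_cancel_right]
  obtain ⟨i, hi⟩ := (mk_eq_mk hg hgz).1 h4
  have hzz : z⁻¹ = z := inv_eq_of_mul_eq_one_left hz2
  have hcy : Commute (y ^ i) z := ((show Commute z y from hzy).zpow_right i).symm
  have h6 : g * (y ^ i * y ^ i) = g := by
    have h7 : z * (g * y ^ i) * z⁻¹ = g := by
      rw [hi, hzz]
      calc z * (z * g * z) * z = (z * z) * g * (z * z) := by group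
        _ = g := by rw [hz2, one_mul, mul_one]
    calc g * (y ^ i * y ^ i) = (z * g * z⁻¹) * y ^ i := by rw [← hi, mul_assoc]
      _ = z * g * (z⁻¹ * y ^ i) := by group
      _ = z * g * (y ^ i * z⁻¹) := by rw [hcy.inv_right.eq]
      _ = z * (g * y ^ i) * z⁻¹ := by group
      _ = g := h7
  have h7 : (y ^ i) ^ 2 = 1 := by
    have := mul_eq_left.1 h6
    rw [pow_two]; exact this
  have h8 : y ^ i = 1 := by
    have h1 : (y ^ i) ^ r = 1 := by
      rw [← zpow_natCast, ← zpow_mul, mul_comm, zpow_mul, zpow_natCast, ← hy, pow_orderOf_eq_one, one_zpow]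
    have h2 : Nat.Coprime 2 r := (Nat.coprime_primes Nat.prime_two hr).2 hr2.symm
    have h3 : orderOf (y ^ i) ∣ Nat.gcd 2 r := Nat.dvd_gcd (orderOf_dvd_of_pow_eq_one h7) (orderOf_dvd_of_pow_eq_one h1)
    rw [h2] at h3
    exact orderOf_eq_one_iff.1 (Nat.dvd_one.1 h3)
  rw [h8, mul_one] at hi
  have h9 : g * z = z * g := (mul_inv_eq_iff_eq_mul.1 hi.symm).symm
  -- the order of `g` is divisible by `q`
  apply hqz
  have h10 : g ∈ centralizer ({z} : Set G) := mem_centralizer_singleton_iff.2 h9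
  have h11 : q ∣ orderOf g := by
    have h12 : orderOf (mk y hg) = q := by rw [hgn, Subgroup.orderOf_coe, hn]
    rw [← h12]
    apply orderOf_dvd_of_pow_eq_one
    have h13 : g ^ orderOf g * y = y * g ^ orderOf g := ((show Commute g y from hg).pow_left _).eq
    have h14 : mk y hg ^ orderOf g = mk y h13 := rfl
    rw [h14, LThreeMB.mk_eq_one]
    exact ⟨0, by rw [zpow_zero, pow_orderOf_eq_one]⟩
  exact h11.trans (by rw [← Subgroup.orderOf_mk g h10]; exact orderOf_dvd_natCard _)

end Cfsg.Agent.H241.NH
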